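import Mathlib
import Cfsg.Agent.Omega.Quasithin.Row.EvenOf
import Cfsg.Agent.RuD.IdxPermG_m3
import Cfsg.Agent.KFacts.Ru.Core
import Cfsg.Agent.FastGrp
import Cfsg.Agent.Prune
set_option linter.all false
prune_inst 0x7f00000000000000000000000000000000000000000000000000000000000000000000000000000000000000000000000000000000000000000000000000000000000000000000000000000000000000003fffffffffffffffffffffffffffbeffbdffffffff
open scoped Cfsg.Agent.FastGrp

-- merged: Cfsg.Agent.Omega.Quasithin.Row.EvenE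
section

/-!
# A self-centralising 2-subgroup from an elementary abelian normal subgroup (S1731, table)

`z ∈ E`, `E` elementary abelian and normalised by `C(z)`, `C(E)` a 2-group: the centraliser `Q` of `E/⟨z⟩` in `C(z)` is
a 2-group, normalised by `C(z)`, and contains its centraliser in `C(z)`.
-/

set_option autoImplicit false

namespace Cfsg.Agent.Omega.Quasithin.EvenE

open Subgroup

variable {G : Type*} [Group G]

theorem exists_Q {z : G} {E : Subgroup G} (hzE : z ∈ E) (hE : ∀ x ∈ E, x * x = 1)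
    (hEn : ∀ g, g * z = z * g → ∀ x ∈ E, g * x * g⁻¹ ∈ E) {A : Subgroup G} (hA2 : IsPGroup 2 A)
    (hA : ∀ g, (∀ x ∈ E, g * x = x * g) → g ∈ A) :
    ∃ Q : Subgroup G, IsPGroup 2 Q ∧ (∀ g, g * z = z * g → ∀ x ∈ Q, g * x * g⁻¹ ∈ Q) ∧
        ∀ g, g * z = z * g → (∀ x ∈ Q, g * x = x * g) → g ∈ Q := by
  have hzz : z * z = 1 := hE z hzE
  have hzi : z⁻¹ = z := inv_eq_of_mul_eq_one_right hzz
  have hcomm : ∀ x ∈ E, ∀ y ∈ E, x * y = y * x := by
    intro x hx y hy
    have hxi : x⁻¹ = x := inv_eq_of_mul_eq_one_right (hE x hx)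
    have hyi : y⁻¹ = y := inv_eq_of_mul_eq_one_right (hE y hy)
    have h1 := inv_eq_of_mul_eq_one_right (hE _ (mul_mem hx hy))
    rw [mul_inv_rev, hxi, hyi] at h1
    exact h1.symm
  have hinv : ∀ g, g * z = z * g → g⁻¹ * z = z * g⁻¹ := fun g hg =>
    (Commute.inv_left (show Commute g z from hg)).eq
  let Q : Subgroup G :=
    { carrier := {g | g * z = z * g ∧ ∀ x ∈ E, g * x * g⁻¹ = x ∨ g * x * g⁻¹ = x * z}
      one_mem' := ⟨by rw [one_mul, mul_one], fun x _ => Or.inl (by group)⟩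
      mul_mem' := by
        rintro g h ⟨hg, hg'⟩ ⟨hh, hh'⟩
        refine ⟨by rw [mul_assoc, hh, ← mul_assoc, hg, mul_assoc], fun x hx => ?_⟩
        have e : g * h * x * (g * h)⁻¹ = g * (h * x * h⁻¹) * g⁻¹ := by group
        rw [e]
        rcases hh' x hx with h1 | h1
        · rw [h1]; exact hg' x hx
        · rw [h1]
          have e2 : g * (x * z) * g⁻¹ = g * x * g⁻¹ * z := by
            calc g * (x * z) * g⁻¹ = g * x * (z * g⁻¹) := by group
              _ = g * x * (g⁻¹ * z) := by rw [hinv g hg]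
              _ = _ := by group
          rw [e2]
          rcases hg' x hx with h2 | h2
          · rw [h2]; exact Or.inr rfl
          · rw [h2, mul_assoc, hzz, mul_one]; exact Or.inl rfl
      inv_mem' := by
        rintro g ⟨hg, hg'⟩
        refine ⟨hinv g hg, fun x hx => ?_⟩
        rw [inv_inv]
        have hy : g⁻¹ * x * g ∈ E := by
          have := hEn g⁻¹ (hinv g hg) x hx
          rwa [inv_inv] at this
        have e : g * (g⁻¹ * x * g) * g⁻¹ = x := by group
        rcases hg' _ hy with h1 | h1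
        · rw [e] at h1; exact Or.inl h1.symm
        · rw [e] at h1
          right
          calc g⁻¹ * x * g = g⁻¹ * x * g * (z * z) := by rw [hzz, mul_one]
            _ = g⁻¹ * x * g * z * z := by group
            _ = x * z := by rw [← h1] }
  have hQ : ∀ g, g ∈ Q ↔ g * z = z * g ∧ ∀ x ∈ E, g * x * g⁻¹ = x ∨ g * x * g⁻¹ = x * z := fun _ => Iff.rfl
  refine ⟨Q, ?_, ?_, ?_⟩
  · rintro ⟨g, hg⟩
    obtain ⟨hgz, hg'⟩ := (hQ g).1 hg
    have h1 : g * g ∈ A := by
      apply hA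
      intro x hx
      have h2 : g * g * x * (g * g)⁻¹ = x := by
        have e : g * g * x * (g * g)⁻¹ = g * (g * x * g⁻¹) * g⁻¹ := by group
        rw [e]
        rcases hg' x hx with h3 | h3
        · rw [h3, h3]
        · rw [h3]
          have e2 : g * (x * z) * g⁻¹ = g * x * g⁻¹ * z := by
            calc g * (x * z) * g⁻¹ = g * x * (z * g⁻¹) := by group
              _ = g * x * (g⁻¹ * z) := by rw [hinv g hgz]
              _ = _ := by group
          rw [e2, h3, mul_assoc, hzz, mul_one]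
      exact mul_inv_eq_iff_eq_mul.1 h2
    obtain ⟨k, hk⟩ := hA2 ⟨g * g, h1⟩
    refine ⟨k + 1, Subtype.ext ?_⟩
    have h2 : (g * g) ^ 2 ^ k = 1 := congrArg Subtype.val hk
    show g ^ 2 ^ (k + 1) = 1
    rw [pow_succ', pow_mul, pow_two, h2]
  · intro g hg x hx
    obtain ⟨hxz, hx'⟩ := (hQ x).1 hx
    refine (hQ _).2 ⟨?_, fun y hy => ?_⟩
    · have h1 := hinv g hg
      calc g * x * g⁻¹ * z = g * x * (g⁻¹ * z) := by group
        _ = g * (x * z) * g⁻¹ := by rw [h1]; group
        _ = g * z * x * g⁻¹ := by rw [hxz]; group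
        _ = z * (g * x * g⁻¹) := by rw [hg]; group
    · have hy' : g⁻¹ * y * g ∈ E := by
        have := hEn g⁻¹ (hinv g hg) y hy
        rwa [inv_inv] at this
      have e : g * x * g⁻¹ * y * (g * x * g⁻¹)⁻¹ = g * (x * (g⁻¹ * y * g) * x⁻¹) * g⁻¹ := by group
      rw [e]
      rcases hx' _ hy' with h1 | h1
      · left
        rw [h1]; group
      · right
        rw [h1]
        calc g * (g⁻¹ * y * g * z) * g⁻¹ = y * (g * z) * g⁻¹ := by group
          _ = y * (z * g) * g⁻¹ := by rw [hg]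
          _ = y * z := by group
  · intro g hg hgx
    refine (hQ g).2 ⟨hg, fun x hx => Or.inl ?_⟩
    have hxQ : x ∈ Q := (hQ x).2 ⟨hcomm x hx z hzE, fun y hy => Or.inl (by
      rw [hcomm x hx y hy, mul_inv_cancel_right])⟩
    rw [hgx x hxQ, mul_inv_cancel_right]

end Cfsg.Agent.Omega.Quasithin.EvenE

end

-- merged: Cfsg.Agent.Omega.Quasithin.Row.Ru
section

/-!
# The Rudvalis group is of even characteristic (S1731, table)

`E` = union of the five members of `Σ(z)` (order 32): the centraliser of `E/⟨z⟩` in `C(z)` is a 2-group.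
-/

set_option autoImplicit false

namespace Cfsg.Agent.Omega.Quasithin.Ru

open Cfsg Subgroup Cfsg.Agent.RuB Cfsg.Agent.RuB.Core Cfsg.Agent.RuB.NormZ Cfsg.Agent.KFacts.Ru
  Cfsg.Agent.Ru127.Basic Cfsg.Agent.Ru127.Count Cfsg.Agent.Ru127.Sg

variable {G : Type*} [Group G]

theorem even_of_core [Finite G] (C : Core G) : IsOfEvenCharacteristic G := by
  obtain ⟨K, hν, hμ, L, hcz⟩ := exists_localData C
  have hz1 : C.z 1 ≠ 1 := fun h => one_ne_zero (C.z_eq_one h)
  have h5 := InvC.card_sig C _ Local.Zs_mem_ZZ _ (z_mem_Zs 1) hz1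
  let E : Subgroup G :=
    { carrier := {x | ∃ Y ∈ Local.ZZ C, C.z 1 ∈ Y ∧ x ∈ Y}
      one_mem' := ⟨_, Local.Zs_mem_ZZ, z_mem_Zs 1, one_mem _⟩
      mul_mem' := by
        rintro u v ⟨b, hb, hzb, hu⟩ ⟨c, hc, hzc, hv⟩
        exact InvA.exists_mul L hz1 h5 hb hzb hc hzc hu hv
      inv_mem' := by
        rintro u ⟨b, hb, hzb, hu⟩
        exact ⟨b, hb, hzb, inv_mem hu⟩ }
  have hE : ∀ x, x ∈ E ↔ ∃ Y ∈ Local.ZZ C, C.z 1 ∈ Y ∧ x ∈ Y := fun _ => Iff.rfl
  obtain ⟨Q, hQ2, hQn, hQc⟩ := EvenE.exists_Q (z := C.z 1) (E := E) (A := C.QQ)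
    ((hE _).2 ⟨_, Local.Zs_mem_ZZ, z_mem_Zs 1, z_mem_Zs 1⟩)
    (by
      intro x hx
      obtain ⟨b, hb, -, hx⟩ := (hE x).1 hx
      exact sq_mem L hb hx)
    (by
      intro g hg x hx
      obtain ⟨b, hb, hzb, hx⟩ := (hE x).1 hx
      refine (hE _).2 ⟨Ru127.Form.cj g b, L.Z_conj b hb g, mem_cj_of_commute hg hzb, ?_⟩
      rw [Ru127.Form.mem_cj]
      have e : g⁻¹ * (g * x * g⁻¹) * g = x := by group
      rwa [e])
    (Cfsg.Agent.RuB.QSyl.pgroup_QQ C)
    (by
      intro g hg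
      exact hcz g fun b => hg _ ((hE _).2 ⟨_, Local.Zs_mem_ZZ, z_mem_Zs 1, z_mem_Zs b⟩))
  obtain ⟨P, -, -, -, -, hP⟩ := InvC.exists_sylow C
  exact EvenOf.even_of_center hQ2 hQn hQc ⟨P, hP⟩

/-- **Row `Ru`.** -/
theorem row_ru (G : Type*) [Group G] [Finite G] (h : Spor.IsoRu G) : IsOfEvenCharacteristic G := by
  obtain ⟨C, -⟩ := exists_core h
  exact even_of_core C

end Cfsg.Agent.Omega.Quasithin.Ru

end
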