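import Cfsg.Prelude.Def_CaseTheorems
import Cfsg.Agent.ChevalleyStructure.Elts
import Cfsg.Agent.S1025
import Cfsg.Agent.S1026
import Cfsg.Agent.Mrg.Omega.Assembly
import Cfsg.Agent.ChevFast.E6
import Cfsg.Agent.ChevFast.E7
import Cfsg.Agent.ChevFast.E8
import Cfsg.Agent.ChevFast.F4
import Cfsg.Agent.LieClassical.OrthForms
import Cfsg.Agent.LieClassical.OrthFinite
import Cfsg.Agent.AutOrth.Gen
import Cfsg.Agent.Prune
set_option linter.all false

section
prune_inst 0x7f00000000000000000000000000000000000000000000000000000000000000000000000000000000000000000000000000000000000000000000000000000000000000000000000000000000000000003fffffffffffffffffffffffffffbeffbdffffffff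

-- part: Omega/Quasithin/Row/Chev
section
set_option linter.all false
open scoped Cfsg.Agent.FastGrp

-- part: Omega/Quasithin/Row/ChevBase
section
/-!
# Three commuting root subgroups

`not_prankLE` : if three positive roots `r₁ < r₂ < r₃` of one of the seven data pairwise commute, then every subgroup
which contains the image of an injective additive map `A → F × F × F`, `|A| > p²`, has `p`-rank at least 3.
-/

set_option autoImplicit false

namespace Cfsg.Agent.Omega.Quasithin.Row.ChevBase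

open Cfsg Cfsg.Lie Cfsg.Agent.ChevalleyStructure.Elts

universe u

variable {F : Type u} [Field F] {D : ChevalleyDatum}

/-- The element `x_{r₁}(a) x_{r₂}(b) x_{r₃}(c)`. -/
def el (hD : InList D) (r₁ r₂ r₃ : ℕ) (v : F × F × F) : GL D.Idx F :=
  xG hD r₁ v.1 * (xG hD r₂ v.2.1 * xG hD r₃ v.2.2)

/-- The data of three commuting positive roots. -/
structure Three (D : ChevalleyDatum) (r₁ r₂ r₃ : ℕ) : Prop where
  filter : D.posRoots.filter (fun r => decide (r = r₁ ∨ r = r₂ ∨ r = r₃)) = [r₁, r₂, r₃]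
  c12 : D.commTerms r₁ r₂ = []
  c13 : D.commTerms r₁ r₃ = []
  c23 : D.commTerms r₂ r₃ = []
  lt12 : r₁ < r₂
  lt23 : r₂ < r₃
  n12 : r₂ ≠ D.neg r₁
  n13 : r₃ ≠ D.neg r₁
  n23 : r₃ ≠ D.neg r₂

theorem Three.pos {r₁ r₂ r₃ : ℕ} (h : Three D r₁ r₂ r₃) {r : ℕ} (hr : r = r₁ ∨ r = r₂ ∨ r = r₃) :
    D.IsPosRoot r := by
  have h1 : r ∈ D.posRoots.filter (fun r => decide (r = r₁ ∨ r = r₂ ∨ r = r₃)) := by
    rw [h.filter]
    simpa using hr
  have h2 := (List.mem_filter.1 h1).1
  have h3 := (List.mem_filter.1 h2).2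
  exact of_decide_eq_true h3

theorem comm_of_nil (hD : InList D) {r s : ℕ} (hr : r < D.nroots) (hs : s < D.nroots) (hrs : s ≠ r)
    (hneg : s ≠ D.neg r) (hc : D.commTerms r s = []) (t u : F) :
    xG hD s u * xG hD r t = xG hD r t * xG hD s u := by
  apply Units.ext
  have h := Cfsg.Agent.S1025.result D hD r s hr hs hrs hneg t u
  have h2 : D.commWord F r s t u = [] := by
    unfold ChevalleyDatum.commWord
    rw [hc]
    rfl
  rw [h2, wordMat_nil, mul_one] at h
  exact h

variable {r₁ r₂ r₃ : ℕ}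

theorem el_add (hD : InList D) (h : Three D r₁ r₂ r₃) (v w : F × F × F) :
    el hD r₁ r₂ r₃ (v + w) = el hD r₁ r₂ r₃ v * el hD r₁ r₂ r₃ w := by
  have p1 := (h.pos (Or.inl rfl)).1
  have p2 := (h.pos (Or.inr (Or.inl rfl))).1
  have p3 := (h.pos (Or.inr (Or.inr rfl))).1
  have l12 := h.lt12
  have l23 := h.lt23
  have c12 := fun t u => comm_of_nil (F := F) hD p1 p2 (by omega) h.n12 h.c12 t u
  have c13 := fun t u => comm_of_nil (F := F) hD p1 p3 (by omega) h.n13 h.c13 t u
  have c23 := fun t u => comm_of_nil (F := F) hD p2 p3 (by omega) h.n23 h.c23 t u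
  obtain ⟨a, b, c⟩ := v
  obtain ⟨a', b', c'⟩ := w
  simp only [el, Prod.fst_add, Prod.snd_add, ← xG_add]
  calc xG hD r₁ a * xG hD r₁ a' * (xG hD r₂ b * xG hD r₂ b' * (xG hD r₃ c * xG hD r₃ c'))
      = xG hD r₁ a * (xG hD r₁ a' * xG hD r₂ b) * (xG hD r₂ b' * xG hD r₃ c) * xG hD r₃ c' := by
        simp only [mul_assoc]
    _ = xG hD r₁ a * (xG hD r₂ b * xG hD r₁ a') * (xG hD r₃ c * xG hD r₂ b') * xG hD r₃ c' := by
        rw [← c12 a' b, ← c23 b' c]
    _ = xG hD r₁ a * xG hD r₂ b * (xG hD r₁ a' * xG hD r₃ c) * xG hD r₂ b' * xG hD r₃ c' := by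
        simp only [mul_assoc]
    _ = xG hD r₁ a * xG hD r₂ b * (xG hD r₃ c * xG hD r₁ a') * xG hD r₂ b' * xG hD r₃ c' := by
        rw [← c13 a' c]
    _ = _ := by simp only [mul_assoc]

theorem wordMat_filter (hD : InList D) (P : ℕ → Bool) (t : ℕ → F) (ht : ∀ r, P r = false → t r = 0) (l : List ℕ) :
    D.wordMat F (l.map fun r => (r, t r)) = D.wordMat F ((l.filter P).map fun r => (r, t r)) := by
  induction l with
  | nil => rfl
  | cons r l ih =>
    by_cases hr : P r = true
    · rw [List.filter_cons_of_pos hr, List.map_cons, List.map_cons, wordMat_cons, wordMat_cons, ih]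
    · rw [List.filter_cons_of_neg hr, List.map_cons, wordMat_cons, ih]
      have h0 : t r = 0 := ht r (by simpa using hr)
      simp only [h0]
      rw [x_zero hD, one_mul]

/-- The coefficient family of `el`. -/
def cf (r₁ r₂ r₃ : ℕ) (v : F × F × F) (r : ℕ) : F :=
  if r = r₁ then v.1 else if r = r₂ then v.2.1 else if r = r₃ then v.2.2 else 0

theorem cf_one (v : F × F × F) : cf r₁ r₂ r₃ v r₁ = v.1 := if_pos rfl

theorem cf_two (h : r₁ < r₂) (v : F × F × F) : cf r₁ r₂ r₃ v r₂ = v.2.1 := by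
  rw [cf, if_neg (by omega), if_pos rfl]

theorem cf_three (h : r₁ < r₂) (h' : r₂ < r₃) (v : F × F × F) : cf r₁ r₂ r₃ v r₃ = v.2.2 := by
  rw [cf, if_neg (by omega), if_neg (by omega), if_pos rfl]

theorem coe_el (hD : InList D) (h : Three D r₁ r₂ r₃) (v : F × F × F) :
    ((el hD r₁ r₂ r₃ v : GL D.Idx F) : Matrix D.Idx D.Idx F) =
      D.wordMat F (D.posRoots.map fun r => (r, cf r₁ r₂ r₃ v r)) := by
  have l12 := h.lt12
  have l23 := h.lt23
  rw [wordMat_filter hD (fun r => decide (r = r₁ ∨ r = r₂ ∨ r = r₃)) (cf r₁ r₂ r₃ v) (by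
    intro r hr
    have hr' := of_decide_eq_false hr
    push Not at hr'
    rw [cf, if_neg hr'.1, if_neg hr'.2.1, if_neg hr'.2.2]), h.filter]
  simp only [List.map_cons, List.map_nil, wordMat_cons, wordMat_nil, mul_one]
  rw [cf_one, cf_two l12, cf_three l12 l23]
  rfl

theorem el_mem_pos (hD : InList D) (h : Three D r₁ r₂ r₃) (v : F × F × F) :
    el hD r₁ r₂ r₃ v ∈ D.posUnipotent F :=
  mul_mem (xG_mem_posUnipotent hD (h.pos (Or.inl rfl)) _)
    (mul_mem (xG_mem_posUnipotent hD (h.pos (Or.inr (Or.inl rfl))) _)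
      (xG_mem_posUnipotent hD (h.pos (Or.inr (Or.inr rfl))) _))

theorem el_injective (hD : InList D) (h : Three D r₁ r₂ r₃) :
    Function.Injective (el (F := F) hD r₁ r₂ r₃) := by
  intro v w hvw
  have l12 := h.lt12
  have l23 := h.lt23
  have hs : ∀ v : F × F × F, ∀ r, ¬ D.IsPosRoot r → cf r₁ r₂ r₃ v r = 0 := by
    intro v r hr
    rw [cf, if_neg (fun h' => hr (h.pos (Or.inl h'))), if_neg (fun h' => hr (h.pos (Or.inr (Or.inl h')))),
      if_neg (fun h' => hr (h.pos (Or.inr (Or.inr h'))))]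
  obtain ⟨t, _, hu⟩ := (Cfsg.Agent.S1026.result (F := F) D hD).1 (el hD r₁ r₂ r₃ v) (el_mem_pos hD h v)
  have h1 := hu (cf r₁ r₂ r₃ v) ⟨hs v, coe_el hD h v⟩
  have h2 := hu (cf r₁ r₂ r₃ w) ⟨hs w, by rw [hvw]; exact coe_el hD h w⟩
  have h3 : cf r₁ r₂ r₃ v = cf r₁ r₂ r₃ w := h1.trans h2.symm
  have e1 := congrFun h3 r₁
  have e2 := congrFun h3 r₂
  have e3 := congrFun h3 r₃
  rw [cf_one, cf_one] at e1
  rw [cf_two l12, cf_two l12] at e2
  rw [cf_three l12 l23, cf_three l12 l23] at e3
  exact Prod.ext e1 (Prod.ext e2 e3)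

theorem el_zero (hD : InList D) : el (F := F) hD r₁ r₂ r₃ 0 = 1 := by
  simp only [el, Prod.fst_zero, Prod.snd_zero, xG_zero, mul_one]

/-- **The criterion.** -/
theorem not_prankLE (hD : InList D) (h : Three D r₁ r₂ r₃) (p : ℕ) [CharP F p] {Γ : Subgroup (GL D.Idx F)}
    {A : Type*} [AddCommGroup A] (φ : A →+ F × F × F) (hφ : Function.Injective φ)
    (hmem : ∀ a, el hD r₁ r₂ r₃ (φ a) ∈ Γ) (hcard : p ^ 2 < Nat.card A) : ¬ PRankLE p 2 Γ := by
  intro hr
  let f : Multiplicative A →* Γ :=
    { toFun := fun a => ⟨el hD r₁ r₂ r₃ (φ a.toAdd), hmem _⟩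
      map_one' := Subtype.ext (by
        change el hD r₁ r₂ r₃ (φ 0) = 1
        rw [map_zero, el_zero])
      map_mul' := fun a b => Subtype.ext (by
        change el hD r₁ r₂ r₃ (φ (a.toAdd + b.toAdd)) = _
        rw [map_add, el_add hD h]
        rfl) }
  have hf : Function.Injective f := by
    intro a b hab
    have h1 : el hD r₁ r₂ r₃ (φ a.toAdd) = el hD r₁ r₂ r₃ (φ b.toAdd) := congrArg Subtype.val hab
    exact hφ (el_injective hD h h1)
  have h1 := hr f.range ⟨⟨by
    rintro ⟨_, a, rfl⟩ ⟨_, b, rfl⟩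
    apply Subtype.ext
    change f a * f b = f b * f a
    rw [← map_mul, ← map_mul, mul_comm]⟩⟩ (by
    rintro _ ⟨a, rfl⟩
    rw [← map_pow]
    have : a ^ p = 1 := by
      have h2 : p • a.toAdd = 0 := by
        apply hφ
        rw [map_nsmul, map_zero]
        refine Prod.ext ?_ (Prod.ext ?_ ?_)
        · change p • (φ a.toAdd).1 = 0
          rw [nsmul_eq_mul, CharP.cast_eq_zero, zero_mul]
        · change p • (φ a.toAdd).2.1 = 0
          rw [nsmul_eq_mul, CharP.cast_eq_zero, zero_mul]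
        · change p • (φ a.toAdd).2.2 = 0
          rw [nsmul_eq_mul, CharP.cast_eq_zero, zero_mul]
      exact h2
    rw [this, map_one])
  have h2 : Nat.card f.range = Nat.card A := by
    rw [Nat.card_congr (MonoidHom.ofInjective hf).symm.toEquiv]
    rfl
  omega

end Cfsg.Agent.Omega.Quasithin.Row.ChevBase
end

-- part: Omega/Quasithin/Row/Chev
section
/-!
# Rows `chev`, `twisted`, `ree` of the table for S1731
-/

set_option autoImplicit false

namespace Cfsg.Agent.Omega.Quasithin.Row.Chev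

open Cfsg Cfsg.Lie Cfsg.Agent.ChevalleyStructure.Elts Cfsg.Agent.Omega.Quasithin.Row.ChevBase

universe u

theorem three_G2 : Three chevG2 9 10 11 where
  filter := by decide +kernel
  c12 := by decide +kernel
  c13 := by decide +kernel
  c23 := by decide +kernel
  lt12 := by norm_num
  lt23 := by norm_num
  n12 := by decide +kernel
  n13 := by decide +kernel
  n23 := by decide +kernel

theorem three_F4 : Three chevF4 45 46 47 where
  filter := by (delta Cfsg.Lie.ChevalleyDatum.IsPosRoot Cfsg.Lie.ChevalleyDatum.instDecidableIsPosRoot Cfsg.Lie.ChevalleyDatum.instDecidableIsPosRoot._aux_1 Cfsg.Lie.ChevalleyDatum.posRoots; rewrite [Cfsg.Agent.ChevFast.F4.coroot]; decide +kernel)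
  c12 := by (rewrite [Cfsg.Agent.ChevFast.F4.commTerms]; decide +kernel)
  c13 := by decide +kernel
  c23 := by decide +kernel
  lt12 := by norm_num
  lt23 := by norm_num
  n12 := by decide +kernel
  n13 := by decide +kernel
  n23 := by decide +kernel

theorem three_E6 : Three chevE6 69 70 71 where
  filter := by (delta Cfsg.Lie.ChevalleyDatum.IsPosRoot Cfsg.Lie.ChevalleyDatum.instDecidableIsPosRoot Cfsg.Lie.ChevalleyDatum.instDecidableIsPosRoot._aux_1 Cfsg.Lie.ChevalleyDatum.posRoots; rewrite [Cfsg.Agent.ChevFast.E6.coroot]; decide +kernel)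
  c12 := by decide +kernel
  c13 := by decide +kernel
  c23 := by decide +kernel
  lt12 := by norm_num
  lt23 := by norm_num
  n12 := by decide +kernel
  n13 := by decide +kernel
  n23 := by decide +kernel

theorem three_E7 : Three chevE7 123 124 125 where
  filter := by (delta Cfsg.Lie.ChevalleyDatum.IsPosRoot Cfsg.Lie.ChevalleyDatum.instDecidableIsPosRoot Cfsg.Lie.ChevalleyDatum.instDecidableIsPosRoot._aux_1 Cfsg.Lie.ChevalleyDatum.posRoots; rewrite [Cfsg.Agent.ChevFast.E7.coroot]; decide +kernel)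
  c12 := by decide +kernel
  c13 := by decide +kernel
  c23 := by decide +kernel
  lt12 := by norm_num
  lt23 := by norm_num
  n12 := by decide +kernel
  n13 := by decide +kernel
  n23 := by decide +kernel

theorem three_E8 : Three chevE8 237 238 239 where
  filter := by (delta Cfsg.Lie.ChevalleyDatum.IsPosRoot Cfsg.Lie.ChevalleyDatum.instDecidableIsPosRoot Cfsg.Lie.ChevalleyDatum.instDecidableIsPosRoot._aux_1 Cfsg.Lie.ChevalleyDatum.posRoots; rewrite [Cfsg.Agent.ChevFast.E8.coroot]; decide +kernel)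
  c12 := by (rewrite [Cfsg.Agent.ChevFast.E8.commTerms]; decide +kernel)
  c13 := by (rewrite [Cfsg.Agent.ChevFast.E8.commTerms]; decide +kernel)
  c23 := by (rewrite [Cfsg.Agent.ChevFast.E8.commTerms]; decide +kernel)
  lt12 := by norm_num
  lt23 := by norm_num
  n12 := by (rewrite [Cfsg.Agent.ChevFast.E8.neg]; decide +kernel)
  n13 := by (rewrite [Cfsg.Agent.ChevFast.E8.neg]; decide +kernel)
  n23 := by (rewrite [Cfsg.Agent.ChevFast.E8.neg]; decide +kernel)

/-- ³D₄: the roots `p₄, p₃, p₁`. -/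
theorem three_D4 : Three chevD4 12 13 18 where
  filter := by decide +kernel
  c12 := by decide +kernel
  c13 := by decide +kernel
  c23 := by decide +kernel
  lt12 := by norm_num
  lt23 := by norm_num
  n12 := by decide +kernel
  n13 := by decide +kernel
  n23 := by decide +kernel

/-- ²E₆: the roots `p₆, p₂, p₁`. -/
theorem three_E6' : Three chevE6 36 46 56 where
  filter := by (delta Cfsg.Lie.ChevalleyDatum.IsPosRoot Cfsg.Lie.ChevalleyDatum.instDecidableIsPosRoot Cfsg.Lie.ChevalleyDatum.instDecidableIsPosRoot._aux_1 Cfsg.Lie.ChevalleyDatum.posRoots; rewrite [Cfsg.Agent.ChevFast.E6.coroot]; decide +kernel)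
  c12 := by (rewrite [Cfsg.Agent.ChevFast.E6.commTerms]; decide +kernel)
  c13 := by decide +kernel
  c23 := by decide +kernel
  lt12 := by norm_num
  lt23 := by norm_num
  n12 := by decide +kernel
  n13 := by decide +kernel
  n23 := by decide +kernel

theorem lt_cube {p n : ℕ} (hp : p.Prime) (h : p ^ 3 ≤ n) : p ^ 2 < n :=
  lt_of_lt_of_le (Nat.pow_lt_pow_right hp.one_lt (by norm_num)) h

theorem card_ge {F : Type*} [Field F] [Fintype F] {p : ℕ} (hp : p.Prime) [CharP F p] : p ≤ Fintype.card F := by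
  have : Fact p.Prime := ⟨hp⟩
  obtain ⟨n, _, hn⟩ := FiniteField.card F p
  rw [hn]
  exact Nat.le_self_pow n.pos.ne' p

/-- The untwisted groups. -/
theorem not_chev {D : ChevalleyDatum} (hD : InList D) {r₁ r₂ r₃ : ℕ} (h : Three D r₁ r₂ r₃) {F : Type*} [Field F]
    [Fintype F] {p : ℕ} (hp : p.Prime) [CharP F p] : ¬ PRankLE p 2 (D.group F) := by
  refine not_prankLE hD h p (A := F × F × F) (AddMonoidHom.id _) Function.injective_id (fun a => ?_) ?_
  · exact mul_mem (xG_mem_group hD _ _) (mul_mem (xG_mem_group hD _ _) (xG_mem_group hD _ _))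
  · have h1 := card_ge (F := F) hp
    apply lt_cube hp
    rw [Nat.card_prod, Nat.card_prod, Nat.card_eq_fintype_card]
    calc p ^ 3 = p * (p * p) := by ring
      _ ≤ _ := Nat.mul_le_mul h1 (Nat.mul_le_mul h1 h1)

theorem mem_gen {D : ChevalleyDatum} {F : Type*} [Field F] (hD : InList D) {S : Set (List (ℕ × F))} {w : List (ℕ × F)}
    (hw : w ∈ S) : wordG hD w ∈ D.genSubgroup F S :=
  Subgroup.subset_closure ⟨w, hw, coe_wordG hD w⟩

/-- A prime power which divides the order of a field of characteristic `p` up to powers is a power of `p`. -/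
theorem exists_pow {K : Type*} [Field K] [Fintype K] {p q k : ℕ} (hp : p.Prime) [CharP K p] (hq : IsPrimePow q)
    (hk : k ≠ 0) (hc : Fintype.card K = q ^ k) : ∃ n, 0 < n ∧ q = p ^ n := by
  have : Fact p.Prime := ⟨hp⟩
  obtain ⟨m, _, hm⟩ := FiniteField.card K p
  obtain ⟨l, n, hl, hn, rfl⟩ := hq
  have h1 : l ∣ p ^ (m : ℕ) := by
    rw [← hm, hc, ← pow_mul]
    exact dvd_pow_self l (Nat.mul_ne_zero hn.ne' hk)
  have h2 : l ∣ p := hl.dvd_of_dvd_pow h1
  have h3 : l = p := (Nat.prime_dvd_prime_iff_eq hl.nat_prime hp).1 h2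
  exact ⟨n, hn, by rw [h3]⟩

theorem not_twistedD4 {K : Type*} [Field K] [Fintype K] {p q : ℕ} (hp : p.Prime) [CharP K p] (hq : IsPrimePow q)
    (hc : Fintype.card K = q ^ 3) : ¬ PRankLE p 2 (twistedD4 K q) := by
  have : Fact p.Prime := ⟨hp⟩
  obtain ⟨n, hn, hqn⟩ := exists_pow hp hq (by norm_num) hc
  have hD : InList chevD4 := by simp only [InList, List.mem_cons, true_or, or_true]
  let φ : K →+ K × K × K :=
    (((iterateFrobenius K p n).comp (iterateFrobenius K p n)).toAddMonoidHom).prod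
      ((iterateFrobenius K p n).toAddMonoidHom.prod (AddMonoidHom.id K))
  have hφ : ∀ t, φ t = (t ^ (q ^ 2), t ^ q, t) := by
    intro t
    refine Prod.ext ?_ (Prod.ext ?_ rfl)
    · change iterateFrobenius K p n (iterateFrobenius K p n t) = _
      rw [iterateFrobenius_def, iterateFrobenius_def, ← hqn, ← pow_mul, pow_two]
    · change iterateFrobenius K p n t = _
      rw [iterateFrobenius_def, ← hqn]
  refine not_prankLE hD three_D4 p φ (fun a b hab => ?_) (fun t => ?_) ?_
  · rw [hφ, hφ] at hab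
    exact congrArg (fun v : K × K × K => v.2.2) hab
  · rw [hφ]
    have h1 : wordG hD [(18, t), (13, t ^ q), (12, t ^ (q ^ 2))] ∈ twistedD4 K q := by
      apply mem_gen hD
      right
      exact ⟨t, (d4p1, d4p3, d4p4), by simp, rfl⟩
    have h2 : el hD 12 13 18 (t ^ (q ^ 2), t ^ q, t) = wordG hD [(18, t), (13, t ^ q), (12, t ^ (q ^ 2))] := by
      have h := three_D4
      have c12 := fun t u => comm_of_nil (F := K) hD (h.pos (Or.inl rfl)).1 (h.pos (Or.inr (Or.inl rfl))).1
        (by norm_num) h.n12 h.c12 t u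
      have c13 := fun t u => comm_of_nil (F := K) hD (h.pos (Or.inl rfl)).1 (h.pos (Or.inr (Or.inr rfl))).1
        (by norm_num) h.n13 h.c13 t u
      have c23 := fun t u => comm_of_nil (F := K) hD (h.pos (Or.inr (Or.inl rfl))).1 (h.pos (Or.inr (Or.inr rfl))).1
        (by norm_num) h.n23 h.c23 t u
      simp only [wordG_cons, wordG_nil, mul_one, el]
      rw [← mul_assoc, ← c12, mul_assoc, ← c13, ← mul_assoc, ← c23, mul_assoc]
    rw [h2]
    exact h1
  · apply lt_cube hp
    rw [Nat.card_eq_fintype_card, hc, hqn]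
    exact Nat.pow_le_pow_left (Nat.le_self_pow hn.ne' p) 3

theorem not_twistedE6 {K : Type*} [Field K] [Fintype K] {p q : ℕ} (hp : p.Prime) [CharP K p] (hq : IsPrimePow q)
    (hc : Fintype.card K = q ^ 2) : ¬ PRankLE p 2 (twistedE6 K q) := by
  have : Fact p.Prime := ⟨hp⟩
  obtain ⟨n, hn, hqn⟩ := exists_pow hp hq (by norm_num) hc
  have hD : InList chevE6 := by simp only [InList, List.mem_cons, true_or, or_true]
  let φ : K × ZMod p →+ K × K × K :=
    ((iterateFrobenius K p n).toAddMonoidHom.comp (AddMonoidHom.fst K (ZMod p))).prod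
      (((ZMod.castHom (dvd_refl p) K).toAddMonoidHom.comp (AddMonoidHom.snd K (ZMod p))).prod
        (AddMonoidHom.fst K (ZMod p)))
  have hφ : ∀ a, φ a = (a.1 ^ q, ZMod.castHom (dvd_refl p) K a.2, a.1) := by
    intro t
    refine Prod.ext ?_ (Prod.ext rfl rfl)
    change iterateFrobenius K p n t.1 = _
    rw [iterateFrobenius_def, ← hqn]
  refine not_prankLE hD three_E6' p φ (fun a b hab => ?_) (fun a => ?_) ?_
  · rw [hφ, hφ] at hab
    have h1 : a.1 = b.1 := congrArg (fun v : K × K × K => v.2.2) hab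
    have h2 : ZMod.castHom (dvd_refl p) K a.2 = ZMod.castHom (dvd_refl p) K b.2 :=
      congrArg (fun v : K × K × K => v.2.1) hab
    exact Prod.ext h1 (RingHom.injective _ h2)
  · rw [hφ]
    obtain ⟨t, m⟩ := a
    have hm : (ZMod.castHom (dvd_refl p) K m) ^ q = ZMod.castHom (dvd_refl p) K m := by
      rw [← map_pow, hqn, ZMod.pow_card_pow]
    have h1 : wordG hD [(56, t), (36, t ^ q)] ∈ twistedE6 K q := by
      apply mem_gen hD
      right
      exact ⟨t, (e6p1, e6p6), by simp, rfl⟩
    have h3 : wordG hD [(46, ZMod.castHom (dvd_refl p) K m)] ∈ twistedE6 K q := by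
      apply mem_gen hD
      left
      exact ⟨_, hm, e6p2, by simp, rfl⟩
    have h2 : el hD 36 46 56 (t ^ q, ZMod.castHom (dvd_refl p) K m, t) =
        wordG hD [(56, t), (36, t ^ q)] * wordG hD [(46, ZMod.castHom (dvd_refl p) K m)] := by
      have h := three_E6'
      have c13 := fun t u => comm_of_nil (F := K) hD (h.pos (Or.inl rfl)).1 (h.pos (Or.inr (Or.inr rfl))).1
        (by norm_num) h.n13 h.c13 t u
      have c23 := fun t u => comm_of_nil (F := K) hD (h.pos (Or.inr (Or.inl rfl))).1 (h.pos (Or.inr (Or.inr rfl))).1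
        (by norm_num) h.n23 h.c23 t u
      simp only [wordG_cons, wordG_nil, mul_one, el]
      rw [c13, mul_assoc, c23]
    rw [h2]
    exact mul_mem h1 h3
  · apply lt_cube hp
    rw [Nat.card_prod, Nat.card_eq_fintype_card, hc, Nat.card_zmod]
    calc p ^ 3 = p ^ 2 * p := by ring
      _ ≤ _ := Nat.mul_le_mul_right p (Nat.pow_le_pow_left (by rw [hqn]; exact Nat.le_self_pow hn.ne' p) 2)

theorem not_ree {K : Type*} [Field K] [Fintype K] {m : ℕ} (hm : 1 ≤ m) (hc : Fintype.card K = 3 ^ (2 * m + 1)) :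
    ¬ PRankLE 3 2 (twistedG2 K (3 ^ m)) := by
  have : Fact (Nat.Prime 3) := ⟨Nat.prime_three⟩
  have hch : CharP K 3 := charP_of_card_eq_prime_pow hc
  have hD : InList chevG2 := by simp only [InList, List.mem_cons, true_or]
  let φ : K →+ K × K × K :=
    (iterateFrobenius K 3 m).toAddMonoidHom.prod ((0 : K →+ K).prod (AddMonoidHom.id K))
  have hφ : ∀ t, φ t = (t ^ (3 ^ m), 0, t) := by
    intro t
    refine Prod.ext ?_ (Prod.ext rfl rfl)
    change iterateFrobenius K 3 m t = _
    rw [iterateFrobenius_def]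
  refine not_prankLE hD three_G2 3 φ (fun a b hab => ?_) (fun t => ?_) ?_
  · rw [hφ, hφ] at hab
    exact congrArg (fun v : K × K × K => v.2.2) hab
  · rw [hφ]
    have h1 : wordG hD (reeWordU (3 ^ m) (0 : K) 0 t) ∈ twistedG2 K (3 ^ m) := by
      apply mem_gen hD
      exact ⟨0, 0, t, Or.inl rfl⟩
    have h2 : el hD 9 10 11 (t ^ (3 ^ m), 0, t) = wordG hD (reeWordU (3 ^ m) (0 : K) 0 t) := by
      have hne : 3 ^ m ≠ 0 := by positivity
      simp only [reeWordU, wordG_cons, wordG_nil, mul_one, el]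
      rw [zero_pow hne, zero_pow (Nat.succ_ne_zero _), zero_pow (Nat.succ_ne_zero _)]
      simp only [zero_add, xG_zero, one_mul]
      rfl
    rw [h2]
    exact h1
  · rw [Nat.card_eq_fintype_card, hc]
    exact Nat.pow_lt_pow_right (by norm_num) (by omega)

/-- **Row `chev`.** -/
theorem row_chev : LieRow.{u} (fun p X _ => IsExceptionalChevChar p X) := by
  intro p hp _ G _ _ h hr
  exfalso
  obtain ⟨F, iF, iFt, ic, h⟩ := h
  rcases h with ⟨_, ⟨e⟩⟩ | ⟨⟨e⟩⟩ | ⟨⟨e⟩⟩ | ⟨⟨e⟩⟩ | ⟨⟨e⟩⟩
  · exact not_chev (by simp only [InList, List.mem_cons, true_or]) three_G2 hp (prankLE_congr e hr)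
  · exact not_chev (by simp only [InList, List.mem_cons, true_or, or_true]) three_F4 hp (prankLE_congr e hr)
  · exact not_chev (by simp only [InList, List.mem_cons, true_or, or_true]) three_E6 hp (prankLE_congr e hr)
  · exact not_chev (by simp only [InList, List.mem_cons, true_or, or_true]) three_E7 hp (prankLE_congr e hr)
  · exact not_chev (by simp only [InList, List.mem_cons, true_or, or_true]) three_E8 hp (prankLE_congr e hr)

/-- **Row `twisted`.** -/
theorem row_twisted : LieRow.{u} (fun p X _ => IsTwistedE6D4Char p X) := by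
  intro p hp _ G _ _ h hr
  exfalso
  obtain ⟨K, iK, iKt, ic, q, hq, h⟩ := h
  rcases h with ⟨hc, ⟨e⟩⟩ | ⟨hc, ⟨e⟩⟩
  · exact not_twistedE6 hp hq hc (prankLE_congr e hr)
  · exact not_twistedD4 hp hq hc (prankLE_congr e hr)

/-- **Row `ree`.** -/
theorem row_ree : LieRow.{u} (fun p X _ => p = 3 ∧ Lie.IsoRee X) := by
  rintro p hp _ G _ _ ⟨rfl, K, iK, iKt, m, hm, hc, ⟨e⟩⟩ hr
  exact absurd (prankLE_congr e hr) (not_ree hm hc)

end Cfsg.Agent.Omega.Quasithin.Row.Chev
end

private theorem dce_43e5493114ce : _root_.True := by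
  try have : _root_.True := by simp only [_root_.Cfsg.Agent.Omega.Quasithin.Row.ChevBase.cf.eq_1]
  try have : _root_.True := by simp only [_root_.Cfsg.Agent.Omega.Quasithin.Row.ChevBase.el.congr_simp]
  try have : _root_.True := by simp only [_root_.Cfsg.Lie.reeWordU.eq_1]
  try have : _root_.True := by simp only [_root_.Cfsg.Agent.Omega.Quasithin.Row.ChevBase.el.eq_1]
  exact _root_.True.intro
end

-- part: Omega/Quasithin/Row/OmegaOdd_mg
section
set_option linter.all false
open scoped Cfsg.Agent.FastGrp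

-- part: Omega/Quasithin/Row/OmegaRank
section
/-!
# Orthogonal rows of the table of S1731

The Siegel transformations `E(u, w)`, `w` in a three-dimensional space orthogonal to the singular vector `u`,
form an elementary abelian subgroup of order `q ^ 3` of `PΩ(Q)`.
-/

set_option autoImplicit false

namespace Cfsg.Agent.Omega.Quasithin.Row.OmegaRank

open QuadraticMap Cfsg.Agent.LieClassical.OrthCore Cfsg.Agent.LieClassical.OrthTrans
  Cfsg.Agent.LieClassical.OrthFinite Cfsg.Agent.AutOrth.SemiSim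

universe u

section general

variable {F V : Type*} [Field F] [AddCommGroup V] [Module F V] {Q : QuadraticForm F V}

/-- the homomorphism `a ↦ E(u, w a)` into `E Q`. -/
noncomputable def hom (Q : QuadraticForm F V) (e : V) (he : Q e = 0) (w : (Fin 3 → F) →ₗ[F] V)
    (hw : ∀ a, polar Q e (w a) = 0) : Multiplicative (Fin 3 → F) →* ↥(E Q) where
  toFun a := ⟨siegel Q e (w (Multiplicative.toAdd a)) he (hw _), siegel_mem_E he (hw _)⟩
  map_one' := by
    apply Subtype.ext
    apply LinearEquiv.ext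
    intro v
    simp [siegel_apply]
  map_mul' a b := by
    apply Subtype.ext
    apply LinearEquiv.ext
    intro v
    have h0 : polar Q e (w (Multiplicative.toAdd a) + w (Multiplicative.toAdd b)) = 0 := by
      rw [← map_add]
      exact hw _
    have h := siegel_mul he (hw (Multiplicative.toAdd a)) (hw (Multiplicative.toAdd b)) h0
    rw [Subgroup.coe_mul]
    show _ = (siegel Q e (w (Multiplicative.toAdd a)) he (hw _) *
      siegel Q e (w (Multiplicative.toAdd b)) he (hw _)) v
    rw [h]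
    simp [siegel_apply, toAdd_mul, map_add]

end general

/-- `PΩ(Q)` has `p`-rank at least 3. -/
theorem not_prank {F V : Type*} [Field F] [Finite F] [AddCommGroup V] [Module F V]
    {Q : QuadraticForm F V} (hG : Good Q) (p : ℕ) [Fact p.Prime] [CharP F p] (e : V) (he : Q e = 0)
    (he0 : e ≠ 0) (w : (Fin 3 → F) →ₗ[F] V) (hw : ∀ a, polar Q e (w a) = 0)
    (hinj : ∀ a (c : F), w a = c • e → a = 0) :
    ¬ PRankLE p 2 (↥(E Q) ⧸ Subgroup.center ↥(E Q)) := by
  classical
  intro h
  set φ := (QuotientGroup.mk' (Subgroup.center ↥(E Q))).comp (hom Q e he w hw) with hφ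
  have hi : Function.Injective φ := by
    rw [injective_iff_map_eq_one]
    intro a ha
    have h1 : hom Q e he w hw a ∈ Subgroup.center ↥(E Q) := by
      rw [hφ, MonoidHom.comp_apply, QuotientGroup.mk'_apply, QuotientGroup.eq_one_iff] at ha
      exact ha
    obtain ⟨c, hc⟩ := Cfsg.Agent.AutOrth.Gen.scalar_of_center hG h1
    have h2 : ∀ v, v + polar Q e v • w (Multiplicative.toAdd a)
        - polar Q (w (Multiplicative.toAdd a)) v • e
        - (Q (w (Multiplicative.toAdd a)) * polar Q e v) • e = c • v := fun v => by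
      rw [← hc v]
      exact (siegel_apply he (hw _) v).symm
    have hc1 : c = 1 := by
      have h3 := h2 e
      rw [polar_self_of_sing he, zero_smul, mul_zero, zero_smul, sub_zero, add_zero,
        polar_comm Q (w _) e, hw, zero_smul, sub_zero] at h3
      by_contra hne
      apply he0
      have h4 : (1 - c) • e = 0 := by rw [sub_smul, one_smul, ← h3, sub_self]
      rcases smul_eq_zero.1 h4 with h5 | h5
      · exact absurd (sub_eq_zero.1 h5).symm hne
      · exact h5
    obtain ⟨y, hy⟩ := hG.nondeg.exists_polar_eq he0 1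
    have h3 := h2 y
    rw [hc1, hy, one_smul, one_smul, mul_one] at h3
    have h4 : w (Multiplicative.toAdd a) =
        (polar Q (w (Multiplicative.toAdd a)) y + Q (w (Multiplicative.toAdd a))) • e := by
      rw [add_smul]
      have h5 : y + w (Multiplicative.toAdd a) - polar Q (w (Multiplicative.toAdd a)) y • e -
        Q (w (Multiplicative.toAdd a)) • e - y = 0 := by rw [h3, sub_self]
      have h6 : w (Multiplicative.toAdd a) - (polar Q (w (Multiplicative.toAdd a)) y • e +
        Q (w (Multiplicative.toAdd a)) • e) = 0 := by rw [← h5]; abel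
      exact sub_eq_zero.1 h6
    exact hinj _ _ h4
  have h1 := h φ.range ⟨⟨by
    rintro ⟨_, a, rfl⟩ ⟨_, b, rfl⟩
    apply Subtype.ext
    change φ a * φ b = φ b * φ a
    rw [← map_mul, ← map_mul, mul_comm]⟩⟩ (by
    rintro _ ⟨a, rfl⟩
    rw [← map_pow]
    have : a ^ p = 1 := by
      apply Multiplicative.toAdd.injective
      funext i
      rw [toAdd_pow, toAdd_one, Pi.smul_apply, Pi.zero_apply, nsmul_eq_mul, CharP.cast_eq_zero,
        zero_mul]
    rw [this, map_one])
  rw [← Nat.card_congr (MonoidHom.ofInjective hi).toEquiv] at h1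
  have h2 : Nat.card (Multiplicative (Fin 3 → F)) = Nat.card F ^ 3 := by
    rw [Nat.card_congr Multiplicative.toAdd, Nat.card_fun, Nat.card_eq_fintype_card (α := Fin 3),
      Fintype.card_fin]
  rw [h2] at h1
  have h3 : p ≤ Nat.card F := by
    have : Fintype F := Fintype.ofFinite F
    obtain ⟨n, hn, hcard⟩ := FiniteField.card F p
    rw [Nat.card_eq_fintype_card, hcard]
    exact Nat.le_self_pow n.2.ne' p
  have h4 : p ^ 3 ≤ Nat.card F ^ 3 := Nat.pow_le_pow_left h3 3
  have h5 : p ^ 2 < p ^ 3 := Nat.pow_lt_pow_right (Fact.out : p.Prime).one_lt (by norm_num)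
  omega

/-- The same for `POmega` on coordinates. -/
theorem not_prank_coord {F : Type*} [Field F] [Finite F] {ι : Type} [Fintype ι] [DecidableEq ι]
    {Q : QuadraticForm F (ι → F)} (hG : Good Q) (p : ℕ) [Fact p.Prime] [CharP F p] (i₀ : ι)
    (j : Fin 3 → ι) (hj : Function.Injective j) (hj0 : ∀ k, j k ≠ i₀)
    (h0 : Q (Pi.single i₀ 1) = 0) (h1 : ∀ k, polar Q (Pi.single i₀ 1) (Pi.single (j k) 1) = 0) :
    ¬ PRankLE p 2 (Cfsg.POmega F ⇑Q) := by
  intro h
  set w : (Fin 3 → F) →ₗ[F] (ι → F) :=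
    ∑ k : Fin 3, (LinearMap.proj k : (Fin 3 → F) →ₗ[F] F).smulRight (Pi.single (j k) (1 : F)) with hw
  have hwa : ∀ a, w a = ∑ k, a k • (Pi.single (j k) (1 : F) : ι → F) := fun a => by
    simp [hw]
  refine not_prank hG p (Pi.single i₀ 1) h0 (by
      intro h
      have := congrFun h i₀
      simp at this) w (fun a => ?_) (fun a c hac => ?_)
    (prankLE_congr (quotientCenterCongr
      ((omegaEquiv Q).trans (MulEquiv.subgroupCongr hG.commutator_eq_E))) h)
  · rw [hwa, Fin.sum_univ_three, polar_add_right, polar_add_right, polar_smul_right,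
      polar_smul_right, polar_smul_right, h1, h1, h1]
    simp
  · funext k
    have h2 := congrFun hac (j k)
    rw [hwa, Finset.sum_apply] at h2
    simp only [Pi.smul_apply, Pi.single_apply, smul_eq_mul, mul_ite, mul_one, mul_zero, hj.eq_iff,
      hj0 k, if_false] at h2
    simpa using h2

end Cfsg.Agent.Omega.Quasithin.Row.OmegaRank
end

-- part: Omega/Quasithin/Row/OmegaOdd
section
/-!
# Row `omegaOdd` of the table of S1731
-/

set_option autoImplicit false

namespace Cfsg.Agent.Omega.Quasithin.Row.OmegaOdd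

open QuadraticMap Cfsg.Agent.LieClassical.OrthCore Cfsg.Agent.LieClassical.OrthTrans
  Cfsg.Agent.LieClassical.OrthFinite Cfsg.Agent.LieClassical.OrthForms

universe u

/-- `PΩ_{2m+1}(q)`, `m ≥ 3`, `q` odd, has `p`-rank at least 3 (`p` the characteristic). -/
theorem not_prank (p : ℕ) [Fact p.Prime] (F : Type*) [Field F] [Finite F] [CharP F p] (m : ℕ)
    (hm : 3 ≤ m) (h2 : (2 : F) ≠ 0) : ¬ PRankLE p 2 (Cfsg.POmega F (Cfsg.quadFormOdd m F)) := by
  classical
  have hG : Good (oddForm m F) := good_of_finite (nondeg_oddForm m F h2) (by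
    rw [Module.finrank_fintype_fun_eq_card, Fintype.card_sum, Fintype.card_sum, Fintype.card_fin]
    simp
    omega)
  have h := OmegaRank.not_prank_coord hG p (Sum.inr (Sum.inl ⟨0, by omega⟩))
    ![Sum.inr (Sum.inl ⟨1, by omega⟩), Sum.inr (Sum.inr ⟨1, by omega⟩),
      Sum.inr (Sum.inl ⟨2, by omega⟩)] (by
      intro a b hab
      fin_cases a <;> fin_cases b <;> simp at hab ⊢) (by
      intro k
      fin_cases k <;> simp) (by
      rw [coe_oddForm, quadFormOdd_apply]
      simp) (by
      intro k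
      rw [polar_oddForm]
      have h0 : ∀ k : Fin 3, (Pi.single (Sum.inr (Sum.inl ⟨0, by omega⟩)) (1 : F) :
        Unit ⊕ (Fin m ⊕ Fin m) → F) (Sum.inl ()) = 0 := fun _ => by simp
      rw [h0 0, mul_zero, zero_mul, zero_add]
      refine Finset.sum_eq_zero fun i _ => ?_
      fin_cases k
      · simp
      · by_cases h1 : i = ⟨1, by omega⟩
        · subst h1
          simp
        · simp [h1]
      · simp)
  rwa [coe_oddForm] at h

theorem row_omegaOdd : LieRow.{u} (fun p X _ => IsPOmegaOddChar p X) := by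
  rintro p hp hp2 G _ _ ⟨F, _, _, hc, m, hm, -, ⟨e⟩⟩ hr
  have : Fact p.Prime := ⟨hp⟩
  refine absurd (prankLE_congr e hr) (not_prank p F m hm ?_)
  intro h
  have h1 : ((2 : ℕ) : F) = 0 := by exact_mod_cast h
  rw [CharP.cast_eq_zero_iff F p] at h1
  exact hp2 ((Nat.prime_dvd_prime_iff_eq hp Nat.prime_two).1 h1)

end Cfsg.Agent.Omega.Quasithin.Row.OmegaOdd
end

-- part: Omega/Quasithin/Row/OmegaPlus
section
/-!
# Row `omegaPlus` of the table of S1731
-/

set_option autoImplicit false

namespace Cfsg.Agent.Omega.Quasithin.Row.OmegaPlus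

open QuadraticMap Cfsg.Agent.LieClassical.OrthCore Cfsg.Agent.LieClassical.OrthTrans
  Cfsg.Agent.LieClassical.OrthFinite Cfsg.Agent.LieClassical.OrthForms

universe u

/-- `PΩ⁺_{2m}(q)`, `m ≥ 4`, has `p`-rank at least 3 (`p` the characteristic, any). -/
theorem not_prank (p : ℕ) [Fact p.Prime] (F : Type*) [Field F] [Finite F] [CharP F p] (m : ℕ)
    (hm : 4 ≤ m) : ¬ PRankLE p 2 (Cfsg.POmega F (Cfsg.quadFormPlus m F)) := by
  classical
  have hG : Good (plusForm m F) := good_of_finite (nondeg_plusForm m F) (by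
    rw [Module.finrank_fintype_fun_eq_card, Fintype.card_sum, Fintype.card_fin]; omega)
  have h := OmegaRank.not_prank_coord hG p (Sum.inl ⟨0, by omega⟩)
    ![Sum.inl ⟨1, by omega⟩, Sum.inr ⟨1, by omega⟩, Sum.inl ⟨2, by omega⟩] (by
      intro a b hab
      fin_cases a <;> fin_cases b <;> simp at hab ⊢) (by
      intro k
      fin_cases k <;> simp) (by
      rw [coe_plusForm, quadFormPlus_apply]
      exact Finset.sum_eq_zero fun i _ => by simp) (by
      intro k
      rw [polar_plusForm]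
      refine Finset.sum_eq_zero fun i _ => ?_
      fin_cases k
      · simp
      · by_cases h1 : i = ⟨1, by omega⟩
        · subst h1
          simp
        · simp [h1]
      · simp)
  rwa [coe_plusForm] at h

theorem row_omegaPlus : LieRow.{u} (fun p X _ => IsPOmegaPlusChar p X) := by
  rintro p hp hp2 G _ _ ⟨F, _, _, _, m, hm, ⟨e⟩⟩ hr
  have : Fact p.Prime := ⟨hp⟩
  exact absurd (prankLE_congr e hr) (not_prank p F m hm)

end Cfsg.Agent.Omega.Quasithin.Row.OmegaPlus
end

-- part: Omega/Quasithin/Row/OmegaMinus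
section
/-!
# Row `omegaMinus` of the table of S1731
-/

set_option autoImplicit false

namespace Cfsg.Agent.Omega.Quasithin.Row.OmegaMinus

open QuadraticMap Cfsg.Agent.LieClassical.OrthCore Cfsg.Agent.LieClassical.OrthTrans
  Cfsg.Agent.LieClassical.OrthFinite Cfsg.Agent.LieClassical.OrthForms

universe u

/-- `PΩ⁻_{2m+2}(q)`, `m ≥ 3`, has `p`-rank at least 3 (`p` the characteristic, any). -/
theorem not_prank (p : ℕ) [Fact p.Prime] (F : Type*) [Field F] [Finite F] [CharP F p] (m : ℕ)
    (hm : 3 ≤ m) (a b : F)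
    (hab : ∀ z₁ z₂ : F, z₁ ^ 2 + a * z₁ * z₂ + b * z₂ ^ 2 = 0 → z₁ = 0 ∧ z₂ = 0) :
    ¬ PRankLE p 2 (Cfsg.POmega F (Cfsg.quadFormMinus m F a b)) := by
  classical
  have hG : Good (minusForm m F a b) := good_of_finite (nondeg_minusForm m F a b hab) (by
    rw [Module.finrank_fintype_fun_eq_card, Fintype.card_sum, Fintype.card_sum, Fintype.card_fin]
    simp
    omega)
  have h := OmegaRank.not_prank_coord hG p (Sum.inl (Sum.inl ⟨0, by omega⟩))
    ![Sum.inl (Sum.inl ⟨1, by omega⟩), Sum.inl (Sum.inr ⟨1, by omega⟩),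
      Sum.inl (Sum.inl ⟨2, by omega⟩)] (by
      intro a b hab
      fin_cases a <;> fin_cases b <;> simp at hab ⊢) (by
      intro k
      fin_cases k <;> simp) (by
      rw [coe_minusForm, quadFormMinus_apply]
      simp) (by
      intro k
      rw [polar_minusForm]
      have h0 : ∀ k : Fin 2, (Pi.single (Sum.inl (Sum.inl ⟨0, by omega⟩)) (1 : F) :
        (Fin m ⊕ Fin m) ⊕ Fin 2 → F) (Sum.inr k) = 0 := fun _ => by simp
      rw [h0 0, h0 1]
      simp only [mul_zero, zero_mul, add_zero]
      refine Finset.sum_eq_zero fun i _ => ?_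
      fin_cases k
      · simp
      · by_cases h1 : i = ⟨1, by omega⟩
        · subst h1
          simp
        · simp [h1]
      · simp)
  rwa [coe_minusForm] at h

theorem row_omegaMinus : LieRow.{u} (fun p X _ => IsPOmegaMinusChar p X) := by
  rintro p hp hp2 G _ _ ⟨F, _, _, _, m, a, b, hm, hab, ⟨e⟩⟩ hr
  have : Fact p.Prime := ⟨hp⟩
  exact absurd (prankLE_congr e hr) (not_prank p F (m - 1) (by omega) a b hab)

end Cfsg.Agent.Omega.Quasithin.Row.OmegaMinus
end
end
end
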